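/-
Thompson's theorem: a finite group with a fixed-point-free automorphism of prime order is nilpotent (helper70).

Main results (namespace `Cfsg.Agent.FPF`): `isNilpotent_of_noFix_prime`, `isNilpotent_of_fpf_mulAut`.
-/
import Cfsg.Agent.Lib.FPF.Chief
import Cfsg.Agent.Lib.PLocal.Complements
import Cfsg.Agent.Lib.Transfer.NilpotentHall

set_option autoImplicit false
open Cfsg
open scoped Pointwise

namespace Cfsg.Agent.FPF

universe u

theorem inv_of_complement {A G : Type*} [Group A] [Group G] [Finite G] (act : A →* MulAut G) {q : ℕ}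
    [Fact q.Prime] (P : Sylow q G) (N : Subgroup G) [N.Normal] (h : N.IsComplement' (P : Subgroup G)) :
    Inv act N := by
  intro a x hx
  rw [← QuotientGroup.eq_one_iff, ← orderOf_eq_one_iff]
  have hcard : N.index = Nat.card (P : Subgroup G) := h.symm.index_eq_card
  have hco : (Nat.card N).Coprime N.index := by
    have h1 : ¬ q ∣ Nat.card N := fun hd => P.not_dvd_index (h.index_eq_card.symm ▸ hd)
    rw [hcard, Sylow.card_eq_multiplicity]
    exact Nat.Coprime.pow_right _ (((Fact.out : q.Prime).coprime_iff_not_dvd.mpr h1).symm)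
  refine Nat.eq_one_of_dvd_coprimes hco ?_ (orderOf_dvd_natCard _)
  refine (orderOf_map_dvd (QuotientGroup.mk' N) (act a x)).trans ?_
  rw [show orderOf (act a x) = orderOf x from (act a).orderOf_eq x]
  exact Subgroup.orderOf_dvd_natCard (s := N) hx

theorem isNilpotent_of_noFix_prime {A : Type*} [Group A] [Finite A] {p : ℕ} [Fact p.Prime]
    (hA : Nat.card A = p) : ∀ (n : ℕ) (G : Type u) [Group G] [Finite G], Nat.card G ≤ n →
      ∀ act : A →* MulAut G, NoFix act → Group.IsNilpotent G := by
  intro n
  induction n with
  | zero =>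
    intro G _ _ hc
    have := Nat.card_pos (α := G)
    omega
  | succ n ih =>
    intro G _ _ hc act hfix
    have hAp : IsPGroup p A := IsPGroup.of_card (n := 1) (by rw [hA, pow_one])
    have hres : ∀ H : Subgroup G, H ≠ ⊤ → Inv act H → Group.IsNilpotent H := by
      intro H hH hi
      have hlt : Nat.card H < Nat.card G := by
        refine lt_of_le_of_ne (Subgroup.card_le_card_group H) fun h => hH ?_
        exact Subgroup.eq_top_of_card_eq H h
      exact ih H (by omega) (resAct act H hi) fun x hx =>
        Subtype.ext (hfix x fun a => congrArg Subtype.val (hx a))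
    by_cases hodd : ∃ q, q.Prime ∧ q ≠ 2 ∧ q ∣ Nat.card G
    swap
    · push Not at hodd
      have h2 : IsPGroup 2 G := by
        refine IsPGroup.of_card (n := (Nat.card G).primeFactorsList.length) ?_
        refine Nat.eq_prime_pow_of_unique_prime_dvd Nat.card_pos.ne' fun {d} hd hdvd => ?_
        by_contra h
        exact hodd d hd h hdvd
      exact h2.isNilpotent
    obtain ⟨q, hq, hq2, hqd⟩ := hodd
    haveI : Fact q.Prime := ⟨hq⟩
    suffices hsol : Group.IsSolvable G from isNilpotent_of_fpf_prime hA (n + 1) G hc hsol act hfix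
    letI : MulAction A (Sylow q G) := MulAction.compHom (Sylow q G) act
    obtain ⟨P, hP⟩ := hAp.nonempty_fixed_point_of_prime_not_dvd_card (Sylow q G) (by
      obtain ⟨P⟩ := (inferInstance : Nonempty (Sylow q G))
      intro hd
      exact not_dvd_card act hAp hfix (hd.trans (P.card_dvd_index.trans (Subgroup.index_dvd_card _))))
    have hPmap : ∀ a, (P : Subgroup G).map (act a).toMonoidHom = P := fun a =>
      congrArg (fun Q : Sylow q G => (Q : Subgroup G)) (hP a)
    set Z := Cfsg.centerThompsonOf q (P : Subgroup G)
    have hZinv : ∀ a, Z.map (act a).toMonoidHom = Z := fun a => by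
      rw [PLocal.map_centerThompsonOf _ (act a).injective.injOn, hPmap]
    set H := Subgroup.normalizer (Z : Set G)
    have hHinv : Inv act H := by
      intro a x hx
      have h1 := Subgroup.map_equiv_normalizer_eq Z (act a)
      rw [hZinv a] at h1
      exact h1.le ⟨x, hx, rfl⟩
    by_cases hH : H = ⊤
    · haveI hZn : Z.Normal := Subgroup.normalizer_eq_top_iff.mp hH
      have hPne : (P : Subgroup G) ≠ ⊥ := by
        intro h
        have := P.not_dvd_index
        rw [h, Subgroup.index_bot] at this
        exact this hqd
      obtain ⟨z, hz, hz1, hzq⟩ := PLocal.exists_central_of_order_p P.2 hPne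
      have hzZ : z ∈ Z := PLocal.central_le_centerThompsonOf hz hzq
      have hZP : IsPGroup q Z := P.2.to_le (inf_le_left.trans (PLocal.thompsonSubgroupOf_le _))
      have hZi : Inv act Z := fun a x hx => (hZinv a).le ⟨x, hx, rfl⟩
      have hlt : Nat.card (G ⧸ Z) < Nat.card G := by
        rw [← Subgroup.index_eq_card, ← Z.card_mul_index]
        have h1 : 1 < Nat.card Z := by
          haveI : Nontrivial Z := ⟨⟨⟨z, hzZ⟩, 1, fun h => hz1 (congrArg Subtype.val h)⟩⟩
          exact Finite.one_lt_card
        exact lt_mul_of_one_lt_left (Nat.pos_of_ne_zero Subgroup.index_ne_zero_of_finite) h1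
      haveI := ih (G ⧸ Z) (by omega) (quotAct act Z hZi) (noFix_quot act hAp hfix Z hZi)
      haveI := hZP.isNilpotent
      exact solvable_of_ker_le_range Z.subtype (QuotientGroup.mk' Z)
        (by rw [QuotientGroup.ker_mk', Subgroup.range_subtype])
    · haveI := hres H hH hHinv
      obtain ⟨P₁, N, hN, hcomp⟩ := PLocal.glauberman_complement hq2 P (Transfer.hasNormalPComplement_of_isNilpotent q)
      haveI := hN
      have hNtop : N ≠ ⊤ := by
        rintro rfl
        have h1 := hcomp.symm.index_eq_card
        rw [Subgroup.index_top] at h1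
        have h2 := P₁.not_dvd_index
        rw [Subgroup.eq_bot_of_card_eq _ h1.symm, Subgroup.index_bot] at h2
        exact h2 hqd
      haveI := hres N hNtop (inv_of_complement act P₁ N hcomp)
      haveI : Group.IsNilpotent (G ⧸ N) := by
        refine (IsPGroup.of_card (p := q) (n := (Nat.card G).factorization q) ?_).isNilpotent
        rw [← Subgroup.index_eq_card, hcomp.symm.index_eq_card, Sylow.card_eq_multiplicity]
      exact solvable_of_ker_le_range N.subtype (QuotientGroup.mk' N)
        (by rw [QuotientGroup.ker_mk', Subgroup.range_subtype])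

theorem isNilpotent_of_fpf_mulAut {G : Type u} [Group G] [Finite G] {p : ℕ} [Fact p.Prime] (α : MulAut G)
    (hα : orderOf α = p) (hfpf : ∀ g : G, α g = g → g = 1) : Group.IsNilpotent G := by
  haveI : Finite (MulAut G) := Finite.of_injective (fun e : MulAut G => (e : G → G)) DFunLike.coe_injective
  exact isNilpotent_of_noFix_prime (A := Subgroup.zpowers α) (by rw [Nat.card_zpowers, hα]) (Nat.card G) G le_rfl
    (Subgroup.zpowers α).subtype fun g hg => hfpf g (hg ⟨α, Subgroup.mem_zpowers α⟩)

end Cfsg.Agent.FPF
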