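/-
The Lie ring associated with the lower central series of a group (helper70).

Main results (namespace `Cfsg.Agent.FPFLie`): `Gr G` (a `LieRing`), `e`, `lie_e`, `grMap`, `eq_zero_of_grMap_eq`,
`eq_zero_of_nsmul_eq_zero`.
-/
import Cfsg.Agent.EqLemmas

set_option autoImplicit false
open scoped commutatorElement DirectSum

namespace Cfsg.Agent.FPFLie

variable {G : Type*} [Group G]

/-- The lower central series, indexed from zero. -/
abbrev lcs (G : Type*) [Group G] (i : ℕ) : Subgroup G := (⊤ : Subgroup G).lowerCentralSeries i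

theorem lcs_mono {i j : ℕ} (h : i ≤ j) : lcs G j ≤ lcs G i := Subgroup.lowerCentralSeries_antitone _ h

theorem comm_lcs_le (i j : ℕ) : ⁅lcs G i, lcs G j⁆ ≤ lcs G (i + j + 1) := by
  induction j generalizing i with
  | zero => exact le_rfl
  | succ j ih =>
    set N := lcs G (i + (j + 1) + 1)
    set π := QuotientGroup.mk' N
    have hker : ∀ {H : Subgroup G}, H ≤ N → H.map π = ⊥ := fun h =>
      (Subgroup.map_eq_bot_iff _).mpr (by rwa [QuotientGroup.ker_mk'])
    have h1 : ⁅⁅(⊤ : Subgroup G).map π, (lcs G i).map π⁆, (lcs G j).map π⁆ = ⊥ := by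
      rw [← Subgroup.map_commutator, ← Subgroup.map_commutator, Subgroup.commutator_comm ⊤]
      refine hker ?_
      exact (ih (i + 1)).trans (lcs_mono (by omega))
    have h2 : ⁅⁅(lcs G i).map π, (lcs G j).map π⁆, (⊤ : Subgroup G).map π⁆ = ⊥ := by
      rw [← Subgroup.map_commutator, ← Subgroup.map_commutator]
      refine hker ((Subgroup.commutator_mono (ih i) le_rfl).trans ?_)
      exact lcs_mono (i := i + (j + 1) + 1) (j := i + j + 1 + 1) (by omega)
    have h3 : ⁅⁅(lcs G j).map π, (⊤ : Subgroup G).map π⁆, (lcs G i).map π⁆ = ⊥ :=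
      Subgroup.commutator_commutator_eq_bot_of_rotate h1 h2
    rw [← Subgroup.map_commutator, ← Subgroup.map_commutator, Subgroup.map_eq_bot_iff,
      QuotientGroup.ker_mk', Subgroup.commutator_comm] at h3
    exact h3

theorem comm_mem {i j m : ℕ} {g h : G} (hg : g ∈ lcs G i) (hh : h ∈ lcs G j) (hm : m ≤ i + j + 1) :
    ⁅g, h⁆ ∈ lcs G m :=
  lcs_mono hm (comm_lcs_le i j (Subgroup.commutator_mem_commutator hg hh))

theorem commute_mk {i j n : ℕ} {g h : G} (hg : g ∈ lcs G i) (hh : h ∈ lcs G j) (hn : n ≤ i + j + 1) :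
    Commute (g : G ⧸ lcs G n) (h : G ⧸ lcs G n) := by
  rw [← commutatorElement_eq_one_iff_commute]
  exact (QuotientGroup.eq_one_iff _).mpr (comm_mem hg hh hn)

variable (G)

/-- The `i`-th lower central factor. -/
abbrev Piece (i : ℕ) : Type _ := lcs G i ⧸ (lcs G (i + 1)).subgroupOf (lcs G i)

instance instCommGroupPiece (i : ℕ) : CommGroup (Piece G i) :=
  { (inferInstance : Group (Piece G i)) with
    mul_comm := fun a b => by
      induction a using QuotientGroup.induction_on with
      | _ a =>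
        induction b using QuotientGroup.induction_on with
        | _ b =>
          rw [← QuotientGroup.mk_mul, ← QuotientGroup.mk_mul, QuotientGroup.eq, Subgroup.mem_subgroupOf]
          push_cast
          rw [show ((a : G) * b)⁻¹ * (b * a) = ⁅(b : G)⁻¹, (a : G)⁻¹⁆ by rw [commutatorElement_def]; group]
          exact comm_mem ((lcs G i).inv_mem b.2) ((lcs G i).inv_mem a.2) (by omega) }

/-- The associated graded group. -/
abbrev Gr : Type _ := ⨁ i, Additive (Piece G i)

variable {G}

open Classical in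
/-- The class of an element of `lcs G i`, as a homogeneous element of degree `i`. -/
noncomputable def e (i : ℕ) (g : G) : Gr G :=
  if h : g ∈ lcs G i then DirectSum.of _ i (Additive.ofMul ((⟨g, h⟩ : lcs G i) : Piece G i)) else 0

theorem e_def {i : ℕ} {g : G} (h : g ∈ lcs G i) :
    e i g = DirectSum.of (fun i => Additive (Piece G i)) i (Additive.ofMul ((⟨g, h⟩ : lcs G i) : Piece G i)) :=
  dif_pos h

theorem e_mul {i : ℕ} {g h : G} (hg : g ∈ lcs G i) (hh : h ∈ lcs G i) : e i (g * h) = e i g + e i h := by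
  rw [e_def hg, e_def hh, e_def ((lcs G i).mul_mem hg hh)]
  rw [← map_add]; rfl

theorem e_eq_zero {i : ℕ} {g : G} (hg : g ∈ lcs G (i + 1)) : e i g = 0 := by
  rw [e_def (lcs_mono i.le_succ hg),
    show ((⟨g, lcs_mono i.le_succ hg⟩ : lcs G i) : Piece G i) = 1 from (QuotientGroup.eq_one_iff _).mpr hg]
  exact map_zero _

theorem e_one (i : ℕ) : e i (1 : G) = 0 := e_eq_zero (one_mem _)

theorem e_inv {i : ℕ} {g : G} (hg : g ∈ lcs G i) : e i g⁻¹ = -e i g := by
  rw [eq_neg_iff_add_eq_zero, ← e_mul ((lcs G i).inv_mem hg) hg, inv_mul_cancel, e_one]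

theorem e_congr {i : ℕ} {g h : G} (hg : g ∈ lcs G i) (hh : g⁻¹ * h ∈ lcs G (i + 1)) : e i h = e i g := by
  rw [show h = g * (g⁻¹ * h) by group, e_mul hg (lcs_mono i.le_succ hh), e_eq_zero hh, add_zero]

theorem mem_of_e_eq_zero {i : ℕ} {g : G} (hg : g ∈ lcs G i) (h : e i g = 0) : g ∈ lcs G (i + 1) := by
  rw [e_def hg] at h
  have h1 := DirectSum.of_injective (β := fun i => Additive (Piece G i)) i (h.trans (map_zero (DirectSum.of (fun i => Additive (Piece G i)) i)).symm)
  exact (QuotientGroup.eq_one_iff (⟨g, hg⟩ : lcs G i)).mp (Additive.ofMul.injective h1)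

theorem e_eq_of_mk_eq {i : ℕ} {g h : G} (hg : g ∈ lcs G i) (h1 : (g : G ⧸ lcs G (i + 1)) = (h : G ⧸ lcs G (i + 1))) :
    e i h = e i g := e_congr hg (QuotientGroup.eq.mp h1)

/-- A representative of a class. -/
noncomputable def rep {i : ℕ} (a : Additive (Piece G i)) : G := ((Additive.toMul a).out : lcs G i)

theorem rep_mem {i : ℕ} (a : Additive (Piece G i)) : rep a ∈ lcs G i := (Additive.toMul a).out.2

theorem e_rep {i : ℕ} (a : Additive (Piece G i)) :
    e i (rep a) = DirectSum.of (fun i => Additive (Piece G i)) i a := by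
  rw [e_def (rep_mem a)]
  exact congrArg _ (congrArg Additive.ofMul (QuotientGroup.out_eq' (Additive.toMul a)))

theorem rep_congr {i : ℕ} {a : Additive (Piece G i)} {g : G} (hg : g ∈ lcs G i)
    (h : DirectSum.of (fun i => Additive (Piece G i)) i a = e i g) : g⁻¹ * rep a ∈ lcs G (i + 1) := by
  refine mem_of_e_eq_zero ((lcs G i).mul_mem ((lcs G i).inv_mem hg) (rep_mem a)) ?_
  rw [e_mul ((lcs G i).inv_mem hg) (rep_mem a), e_inv hg, e_rep, h, neg_add_cancel]

theorem e_comm_left {i j : ℕ} {g g' h : G} (hg : g ∈ lcs G i) (hg' : g' ∈ lcs G i) (hh : h ∈ lcs G j) :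
    e (i + j + 1) ⁅g * g', h⁆ = e (i + j + 1) ⁅g, h⁆ + e (i + j + 1) ⁅g', h⁆ := by
  have h1 := comm_mem hg' hh le_rfl
  have h2 := comm_mem hg hh le_rfl
  have hc : g * ⁅g', h⁆ * g⁻¹ ∈ lcs G (i + j + 1) := (inferInstance : (lcs G (i + j + 1)).Normal).conj_mem _ h1 g
  rw [show ⁅g * g', h⁆ = (g * ⁅g', h⁆ * g⁻¹) * ⁅g, h⁆ by simp only [commutatorElement_def]; group,
    e_mul hc h2, add_comm (e _ _)]
  congr 1
  refine e_eq_of_mk_eq h1 ?_
  have hcm := (commute_mk (n := i + j + 1 + 1) hg h1 (by omega)).eq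
  rw [QuotientGroup.mk_mul, QuotientGroup.mk_mul, hcm, QuotientGroup.mk_inv, mul_inv_cancel_right]

theorem e_comm_symm {i j : ℕ} {g h : G} (hg : g ∈ lcs G i) (hh : h ∈ lcs G j) :
    e (j + i + 1) ⁅h, g⁆ = -e (i + j + 1) ⁅g, h⁆ := by
  rw [add_comm j i, ← commutatorElement_inv, e_inv (comm_mem hg hh le_rfl)]

theorem e_comm_right {i j : ℕ} {g h h' : G} (hg : g ∈ lcs G i) (hh : h ∈ lcs G j) (hh' : h' ∈ lcs G j) :
    e (i + j + 1) ⁅g, h * h'⁆ = e (i + j + 1) ⁅g, h⁆ + e (i + j + 1) ⁅g, h'⁆ := by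
  rw [e_comm_symm ((lcs G j).mul_mem hh hh') hg, e_comm_left hh hh' hg, neg_add, ← e_comm_symm hh hg,
    ← e_comm_symm hh' hg]

theorem e_comm_congr {i j : ℕ} {g g' h h' : G} (hg : g ∈ lcs G i) (hh : h ∈ lcs G j)
    (hgg : g⁻¹ * g' ∈ lcs G (i + 1)) (hhh : h⁻¹ * h' ∈ lcs G (j + 1)) :
    e (i + j + 1) ⁅g', h'⁆ = e (i + j + 1) ⁅g, h⁆ := by
  have hg1 := lcs_mono i.le_succ hgg
  have hh1 := lcs_mono j.le_succ hhh
  rw [show g' = g * (g⁻¹ * g') by group, show h' = h * (h⁻¹ * h') by group,
    e_comm_left hg hg1 ((lcs G j).mul_mem hh hh1), e_comm_right hg hh hh1,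
    e_eq_zero (comm_mem hg hhh (by omega)),
    e_eq_zero (comm_mem hgg ((lcs G j).mul_mem hh hh1) (by omega)), add_zero, add_zero]

/-- The bracket of two classes. -/
noncomputable def beta (i j : ℕ) (a : Additive (Piece G i)) (b : Additive (Piece G j)) : Gr G :=
  e (i + j + 1) ⁅rep a, rep b⁆

theorem beta_eq {i j : ℕ} {a : Additive (Piece G i)} {b : Additive (Piece G j)} {g h : G} (hg : g ∈ lcs G i)
    (hh : h ∈ lcs G j) (ha : DirectSum.of (fun i => Additive (Piece G i)) i a = e i g)
    (hb : DirectSum.of (fun i => Additive (Piece G i)) j b = e j h) : beta i j a b = e (i + j + 1) ⁅g, h⁆ :=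
  e_comm_congr hg hh (rep_congr hg ha) (rep_congr hh hb)

theorem beta_add_left (i j : ℕ) (a a' : Additive (Piece G i)) (b : Additive (Piece G j)) :
    beta i j (a + a') b = beta i j a b + beta i j a' b := by
  rw [beta_eq ((lcs G i).mul_mem (rep_mem a) (rep_mem a')) (rep_mem b)
    (by rw [map_add, e_mul (rep_mem a) (rep_mem a'), e_rep, e_rep]) (e_rep b).symm,
    e_comm_left (rep_mem a) (rep_mem a') (rep_mem b)]
  rfl

theorem beta_add_right (i j : ℕ) (a : Additive (Piece G i)) (b b' : Additive (Piece G j)) :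
    beta i j a (b + b') = beta i j a b + beta i j a b' := by
  rw [beta_eq (rep_mem a) ((lcs G j).mul_mem (rep_mem b) (rep_mem b')) (e_rep a).symm
    (by rw [map_add, e_mul (rep_mem b) (rep_mem b'), e_rep, e_rep]),
    e_comm_right (rep_mem a) (rep_mem b) (rep_mem b')]
  rfl

variable (G)

/-- The bracket as a biadditive map. -/
noncomputable def brk : Gr G →+ Gr G →+ Gr G :=
  DirectSum.toAddMonoid fun i => AddMonoidHom.mk'
    (fun a => DirectSum.toAddMonoid fun j => AddMonoidHom.mk' (beta i j a) (beta_add_right i j a))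
    (fun a a' => by
      apply DirectSum.addHom_ext
      intro j b
      erw [DirectSum.toAddMonoid_of, AddMonoidHom.add_apply, DirectSum.toAddMonoid_of,
        DirectSum.toAddMonoid_of]
      exact beta_add_left i j a a' b)

variable {G}

theorem brk_e {i j : ℕ} {g h : G} (hg : g ∈ lcs G i) (hh : h ∈ lcs G j) :
    brk G (e i g) (e j h) = e (i + j + 1) ⁅g, h⁆ := by
  rw [brk, e_def hg, e_def hh]
  erw [DirectSum.toAddMonoid_of]
  erw [DirectSum.toAddMonoid_of]
  exact beta_eq hg hh (e_def hg).symm (e_def hh).symm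

theorem gr_induction {P : Gr G → Prop} (x : Gr G) (h0 : P 0) (he : ∀ i, ∀ g ∈ lcs G i, P (e i g))
    (hadd : ∀ x y, P x → P y → P (x + y)) : P x := by
  induction x using DirectSum.induction_on with
  | zero => exact h0
  | of i a => rw [← e_rep a]; exact he i _ (rep_mem a)
  | add x y hx hy => exact hadd x y hx hy

theorem jacobi_eq {Q : Type*} [Group Q] {x y z a b c : Q} (hx : ⁅x, c⁆ * c = ⁅a * y, b * z⁆)
    (hc : c = ⁅y, z⁆) (hbc : Commute b c) (hac : Commute a c) (hayb : Commute a ⁅y, b⁆)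
    (hbaz : Commute b ⁅a, z⁆) (hab : ⁅a, b⁆ = 1) (hcaz : Commute c ⁅a, z⁆) :
    ⁅x, c⁆ = ⁅y, b⁆ * ⁅a, z⁆ := by
  have h1 : ⁅a * y, b * z⁆ = a * (⁅y, b⁆ * (b * ⁅y, z⁆ * b⁻¹)) * a⁻¹ * (⁅a, b⁆ * (b * ⁅a, z⁆ * b⁻¹)) := by
    simp only [commutatorElement_def]; group
  rw [← hc, hbc.eq, mul_inv_cancel_right, hbaz.eq, mul_inv_cancel_right, hab, one_mul,
    (hayb.mul_right hac).eq, mul_inv_cancel_right, mul_assoc, hcaz.eq, ← mul_assoc] at h1
  exact mul_right_cancel (hx.trans h1)

theorem e_jacobi {i j k : ℕ} {x y z : G} (hx : x ∈ lcs G i) (hy : y ∈ lcs G j) (hz : z ∈ lcs G k) :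
    e (i + (j + k + 1) + 1) ⁅x, ⁅y, z⁆⁆ =
      e (i + (j + k + 1) + 1) ⁅⁅x, y⁆, z⁆ + e (i + (j + k + 1) + 1) ⁅y, ⁅x, z⁆⁆ := by
  set n := i + (j + k + 1) + 1 with hn
  have ha := comm_mem hx hy le_rfl
  have hb := comm_mem hx hz le_rfl
  have hc := comm_mem hy hz le_rfl
  have hyb : ⁅y, ⁅x, z⁆⁆ ∈ lcs G n := comm_mem hy hb (by omega)
  have haz : ⁅⁅x, y⁆, z⁆ ∈ lcs G n := comm_mem ha hz (by omega)
  rw [add_comm, ← e_mul hyb haz]
  refine e_eq_of_mk_eq ((lcs G n).mul_mem hyb haz) ?_
  let π := QuotientGroup.mk' (lcs G (n + 1))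
  show π (⁅y, ⁅x, z⁆⁆ * ⁅⁅x, y⁆, z⁆) = π ⁅x, ⁅y, z⁆⁆
  rw [map_mul]
  simp only [map_commutatorElement]
  refine (jacobi_eq ?_ rfl ?_ ?_ ?_ ?_ ?_ ?_).symm
  · simp only [commutatorElement_def]; group
  all_goals simp only [← map_commutatorElement]
  · exact commute_mk hb hc (by omega)
  · exact commute_mk ha hc (by omega)
  · exact commute_mk ha hyb (by omega)
  · exact commute_mk hb haz (by omega)
  · exact (QuotientGroup.eq_one_iff _).mpr (comm_mem ha hb (by omega))
  · exact commute_mk hc haz (by omega)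

theorem brk_skew (x y : Gr G) : brk G x y = -brk G y x := by
  induction x using gr_induction with
  | h0 => simp
  | hadd x x' hx hx' => simp [hx, hx', add_comm]
  | he i g hg =>
    induction y using gr_induction with
    | h0 => simp
    | hadd y y' hy hy' => simp [hy, hy', add_comm]
    | he j h hh => rw [brk_e hg hh, brk_e hh hg, e_comm_symm hh hg]

theorem brk_self (x : Gr G) : brk G x x = 0 := by
  induction x using gr_induction with
  | h0 => simp
  | hadd x y hx hy =>
    simp only [map_add, AddMonoidHom.add_apply]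
    rw [hx, hy, brk_skew y x]
    abel
  | he i g hg => rw [brk_e hg hg, commutatorElement_self, e_one]

theorem brk_jacobi (x y z : Gr G) :
    brk G x (brk G y z) = brk G (brk G x y) z + brk G y (brk G x z) := by
  induction x using gr_induction with
  | h0 => simp
  | hadd x x' hx hx' => simp [hx, hx']; abel
  | he i g hg =>
    induction y using gr_induction with
    | h0 => simp
    | hadd y y' hy hy' => simp [hy, hy']; abel
    | he j h hh =>
      induction z using gr_induction with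
      | h0 => simp
      | hadd z z' hz hz' => simp [hz, hz']; abel
      | he k l hl =>
        rw [brk_e hh hl, brk_e hg hh, brk_e hg hl, brk_e hg (comm_mem hh hl le_rfl),
          brk_e (comm_mem hg hh le_rfl) hl, brk_e hh (comm_mem hg hl le_rfl),
          show i + j + 1 + k + 1 = i + (j + k + 1) + 1 by omega,
          show j + (i + k + 1) + 1 = i + (j + k + 1) + 1 by omega]
        exact e_jacobi hg hh hl

noncomputable instance : Bracket (Gr G) (Gr G) := ⟨fun x y => brk G x y⟩

noncomputable instance : LieRing (Gr G) where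
  add_lie x y z := by show brk G (x + y) z = _; rw [map_add]; rfl
  lie_add x y z := map_add (brk G x) y z
  lie_self := brk_self
  leibniz_lie := brk_jacobi

theorem lie_e {i j : ℕ} {g h : G} (hg : g ∈ lcs G i) (hh : h ∈ lcs G j) :
    ⁅e i g, e j h⁆ = e (i + j + 1) ⁅g, h⁆ := brk_e hg hh

theorem lcs_map_mem (f : G →* G) {i : ℕ} {g : G} (hg : g ∈ lcs G i) : f g ∈ lcs G i := by
  have : (lcs G i).map f ≤ lcs G i := by
    rw [Subgroup.map_lowerCentralSeries]; exact Subgroup.lowerCentralSeries_mono _ le_top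
  exact this ⟨g, hg, rfl⟩

/-- The map induced by an endomorphism. -/
noncomputable def grMap (f : G →* G) : Gr G →+ Gr G :=
  DirectSum.toAddMonoid fun i => AddMonoidHom.mk' (fun a => e i (f (rep a))) fun a a' => by
    rw [← e_mul (lcs_map_mem f (rep_mem a)) (lcs_map_mem f (rep_mem a')), ← map_mul]
    refine e_congr (lcs_map_mem f ((lcs G i).mul_mem (rep_mem a) (rep_mem a'))) ?_
    rw [← map_inv, ← map_mul]
    refine lcs_map_mem f (rep_congr ((lcs G i).mul_mem (rep_mem a) (rep_mem a')) ?_)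
    rw [map_add, e_mul (rep_mem a) (rep_mem a'), e_rep, e_rep]

theorem grMap_e (f : G →* G) {i : ℕ} {g : G} (hg : g ∈ lcs G i) : grMap f (e i g) = e i (f g) := by
  rw [grMap, e_def hg]
  erw [DirectSum.toAddMonoid_of]
  refine e_congr (lcs_map_mem f hg) ?_
  rw [← map_inv, ← map_mul]
  exact lcs_map_mem f (rep_congr hg (e_def hg).symm)

theorem grMap_lie (f : G →* G) (x y : Gr G) : grMap f ⁅x, y⁆ = ⁅grMap f x, grMap f y⁆ := by
  induction x using gr_induction with
  | h0 => simp
  | hadd x x' hx hx' => simp [add_lie, hx, hx']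
  | he i g hg =>
    induction y using gr_induction with
    | h0 => simp
    | hadd y y' hy hy' => simp [lie_add, hy, hy']
    | he j h hh =>
      rw [lie_e hg hh, grMap_e f hg, grMap_e f hh, lie_e (lcs_map_mem f hg) (lcs_map_mem f hh),
        grMap_e f (comm_mem hg hh le_rfl), map_commutatorElement]

theorem grMap_comp (f f' : G →* G) (x : Gr G) : grMap (f.comp f') x = grMap f (grMap f' x) := by
  induction x using gr_induction with
  | h0 => simp
  | hadd x x' hx hx' => simp [hx, hx']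
  | he i g hg => rw [grMap_e _ hg, grMap_e _ hg, grMap_e _ (lcs_map_mem f' hg)]; rfl

theorem grMap_id (x : Gr G) : grMap (MonoidHom.id G) x = x := by
  induction x using gr_induction with
  | h0 => simp
  | hadd x x' hx hx' => simp [hx, hx']
  | he i g hg => rw [grMap_e _ hg]; rfl

/-- The component of an element in degree `i`. -/
noncomputable def comp (i : ℕ) : Gr G →+ Additive (Piece G i) :=
  DFinsupp.evalAddMonoidHom (β := fun i => Additive (Piece G i)) i

theorem comp_e_of_ne {i j : ℕ} (h : i ≠ j) (g : G) : comp i (e j g) = 0 := by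
  by_cases hg : g ∈ lcs G j
  · rw [e_def hg]; exact DirectSum.of_eq_of_ne (β := fun i => Additive (Piece G i)) j i _ h
  · rw [e, dif_neg hg]; exact map_zero (comp i)

theorem eq_e_comp (i : ℕ) (x : Gr G) :
    ∃ g ∈ lcs G i, DirectSum.of (fun i => Additive (Piece G i)) i (comp i x) = e i g :=
  ⟨rep (comp i x), rep_mem _, (e_rep _).symm⟩

theorem ext_comp {x y : Gr G} (h : ∀ i, comp i x = comp i y) : x = y := DirectSum.ext h

theorem comp_of (i : ℕ) (a : Additive (Piece G i)) :
    comp i (DirectSum.of (fun i => Additive (Piece G i)) i a : Gr G) = a := DirectSum.of_eq_same (β := fun i => Additive (Piece G i)) i a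

theorem of_comp_grMap (f : G →* G) (i : ℕ) (x : Gr G) :
    DirectSum.of (fun i => Additive (Piece G i)) i (comp i (grMap f x)) =
      grMap f (DirectSum.of (fun i => Additive (Piece G i)) i (comp i x)) := by
  induction x using gr_induction with
  | h0 => simp [map_zero]
  | hadd x x' hx hx' =>
    rw [map_add, map_add, map_add, map_add, map_add, hx, hx']
    exact (map_add (grMap f) _ _).symm
  | he j g hg =>
    rw [grMap_e f hg]
    by_cases hij : i = j
    · subst hij
      rw [e_def hg, e_def (lcs_map_mem f hg), comp_of, comp_of, ← e_def hg]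
      exact ((grMap_e f hg).trans (e_def (lcs_map_mem f hg))).symm
    · rw [comp_e_of_ne hij, comp_e_of_ne hij, map_zero]
      exact (map_zero (grMap f)).symm

/-- A fixed-point-free endomorphism of a finite group induces a fixed-point-free map. -/
theorem eq_zero_of_grMap_eq [Finite G] {f : G →* G} (hf : ∀ g, f g = g → g = 1) {x : Gr G}
    (hx : grMap f x = x) : x = 0 := by
  refine ext_comp fun i => ?_
  rw [map_zero]
  obtain ⟨g, hg, hgx⟩ := eq_e_comp i x
  have h1 : e i (f g) = e i g := by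
    rw [← grMap_e f hg, ← hgx, ← of_comp_grMap, hx]
  have h2 : g⁻¹ * f g ∈ lcs G (i + 1) := by
    refine mem_of_e_eq_zero ((lcs G i).mul_mem ((lcs G i).inv_mem hg) (lcs_map_mem f hg)) ?_
    rw [e_mul ((lcs G i).inv_mem hg) (lcs_map_mem f hg), e_inv hg, h1, neg_add_cancel]
  have hinj : Function.Injective fun u : G => u⁻¹ * f u := by
    intro u v huv
    have : f (v * u⁻¹) = v * u⁻¹ := by
      have h3 : u⁻¹ * f u = v⁻¹ * f v := huv
      rw [map_mul, map_inv, show f v = v * (u⁻¹ * f u) by rw [h3, mul_inv_cancel_left]]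
      group
    have := hf _ this
    exact (mul_inv_eq_one.mp this).symm
  let τ : lcs G (i + 1) → lcs G (i + 1) := fun u =>
    ⟨(u : G)⁻¹ * f u, (lcs G (i + 1)).mul_mem ((lcs G (i + 1)).inv_mem u.2) (lcs_map_mem f u.2)⟩
  have hτ : Function.Injective τ := fun u v h => Subtype.ext (hinj (congrArg Subtype.val h))
  obtain ⟨u, hu⟩ := Finite.surjective_of_injective hτ ⟨_, h2⟩
  have : (u : G) = g := hinj (congrArg Subtype.val hu)
  rw [e_eq_zero (this ▸ u.2)] at hgx
  exact DirectSum.of_injective (β := fun i => Additive (Piece G i)) i (hgx.trans (map_zero (DirectSum.of (fun i => Additive (Piece G i)) i)).symm)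

theorem eq_zero_of_nsmul_eq_zero [Finite G] {m : ℕ} (hm : m.Coprime (Nat.card G)) {x : Gr G}
    (hx : m • x = 0) : x = 0 := by
  refine ext_comp fun i => ?_
  rw [map_zero]
  obtain ⟨g, hg, hgx⟩ := eq_e_comp i x
  have hpow : ∀ t : ℕ, e i (g ^ t) = t • e i g := by
    intro t
    induction t with
    | zero => rw [pow_zero, e_one, zero_nsmul]
    | succ t ht => rw [pow_succ, e_mul ((lcs G i).pow_mem hg t) hg, ht, succ_nsmul]
  have h1 : g ^ m ∈ lcs G (i + 1) := by
    refine mem_of_e_eq_zero ((lcs G i).pow_mem hg m) ?_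
    rw [hpow, ← hgx]
    erw [← map_nsmul (DirectSum.of (fun i => Additive (Piece G i)) i), ← map_nsmul (comp i) m x, hx, map_zero]
  obtain ⟨t, ht⟩ := exists_pow_eq_self_of_coprime
    (Nat.Coprime.of_dvd_right (orderOf_dvd_natCard g) hm)
  rw [e_eq_zero (ht ▸ (lcs G (i + 1)).pow_mem h1 t)] at hgx
  exact DirectSum.of_injective (β := fun i => Additive (Piece G i)) i (hgx.trans (map_zero (DirectSum.of (fun i => Additive (Piece G i)) i)).symm)

end Cfsg.Agent.FPFLie
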