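/-
Graded Lie rings with trivial zero component (helper70): Kreknin's theorem and the
Higman--Kostrikin--Kreknin class bound.

Main results (namespace `Cfsg.Agent.FPFLie`): `kreknin` (derived length), `cls_le_bot_of_prime`
(class bound for prime modulus), `cls_two_le_bot_of_three`.
-/
import Cfsg.Agent.EqLemmas

set_option autoImplicit false

namespace Cfsg.Agent.FPFLie

variable {L : Type*} [LieRing L] {n : ℕ}

/-- A family of additive subgroups compatible with the bracket. -/
abbrev IsGr (E : ZMod n → AddSubgroup L) : Prop :=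
  ∀ a b, ∀ x ∈ E a, ∀ y ∈ E b, ⁅x, y⁆ ∈ E (a + b)

/-- The bracket product of two families. -/
def brkFam (E F : ZMod n → AddSubgroup L) (i : ZMod n) : AddSubgroup L :=
  AddSubgroup.closure {z | ∃ a b, a + b = i ∧ ∃ x ∈ E a, ∃ y ∈ F b, ⁅x, y⁆ = z}

theorem mem_brkFam {E F : ZMod n → AddSubgroup L} {a b : ZMod n} {x y : L} (hx : x ∈ E a)
    (hy : y ∈ F b) : ⁅x, y⁆ ∈ brkFam E F (a + b) :=
  AddSubgroup.subset_closure ⟨a, b, rfl, x, hx, y, hy, rfl⟩

theorem brkFam_le {E F : ZMod n → AddSubgroup L} {K : ZMod n → AddSubgroup L}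
    (h : ∀ a b, ∀ x ∈ E a, ∀ y ∈ F b, ⁅x, y⁆ ∈ K (a + b)) (i : ZMod n) : brkFam E F i ≤ K i := by
  rw [brkFam, AddSubgroup.closure_le]
  rintro _ ⟨a, b, rfl, x, hx, y, hy, rfl⟩
  exact h a b x hx y hy

/-- The derived family. -/
def der (E : ZMod n → AddSubgroup L) : ZMod n → AddSubgroup L := brkFam E E

theorem der_le {E : ZMod n → AddSubgroup L} (hE : IsGr E) (i : ZMod n) : der E i ≤ E i :=
  brkFam_le hE i

theorem isGr_der {E : ZMod n → AddSubgroup L} (hE : IsGr E) : IsGr (der E) :=
  fun a b _ hx _ hy => mem_brkFam (der_le hE a hx) (der_le hE b hy)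

theorem iterate_der (E : ZMod n → AddSubgroup L) (hE : IsGr E) (s : ℕ) :
    IsGr (der^[s] E) ∧ ∀ i, der^[s] E i ≤ E i := by
  induction s with
  | zero => exact ⟨hE, fun i => le_rfl⟩
  | succ s ih =>
    rw [Function.iterate_succ_apply']
    exact ⟨isGr_der ih.1, fun i => (der_le ih.1 i).trans (ih.2 i)⟩

/-- The subring generated by the components of degree larger than `k`. -/
inductive Gen (E : ZMod n → AddSubgroup L) (k : ℕ) : ZMod n → L → Prop
  | base {j : ZMod n} {x : L} : k < j.val → x ∈ E j → Gen E k j x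
  | zero (j : ZMod n) : Gen E k j 0
  | add {j : ZMod n} {x y : L} : Gen E k j x → Gen E k j y → Gen E k j (x + y)
  | neg {j : ZMod n} {x : L} : Gen E k j x → Gen E k j (-x)
  | brk {a b : ZMod n} {x y : L} : Gen E k a x → Gen E k b y → Gen E k (a + b) ⁅x, y⁆

theorem Gen.mem {E : ZMod n → AddSubgroup L} {k : ℕ} (hE : IsGr E) {j : ZMod n} {x : L}
    (h : Gen E k j x) : x ∈ E j := by
  induction h with
  | base _ hx => exact hx
  | zero j => exact zero_mem _
  | add _ _ hx hy => exact add_mem hx hy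
  | neg _ hx => exact neg_mem hx
  | brk _ _ hx hy => exact hE _ _ _ hx _ hy

theorem gen_bracket [NeZero n] {E : ZMod n → AddSubgroup L} (hE : IsGr E) (hE0 : E 0 = ⊥) {k : ℕ}
    (hk : k + 1 < n) {a : ZMod n} {h : L} (hh : Gen E k a h) :
    ∀ b, ∀ m ∈ E b, a + b = ((k + 1 : ℕ) : ZMod n) →
      Gen E (k + 1) ((k + 1 : ℕ) : ZMod n) ⁅h, m⁆ := by
  induction hh with
  | @base j x hj hx =>
    intro b m hm hab
    have hv : ((k + 1 : ℕ) : ZMod n).val = k + 1 := ZMod.val_cast_of_lt hk
    rcases Nat.lt_or_ge (k + 1) j.val with hlt | hge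
    · have hb : k + 1 < b.val := by
        have h1 := congrArg ZMod.val hab
        rw [ZMod.val_add, hv] at h1
        have hja := j.val_lt
        have hba := b.val_lt
        rcases Nat.lt_or_ge (j.val + b.val) n with h2 | h2
        · rw [Nat.mod_eq_of_lt h2] at h1; omega
        · rw [Nat.mod_eq_sub_mod h2, Nat.mod_eq_of_lt (by omega)] at h1; omega
      have := Gen.brk (Gen.base hlt hx) (Gen.base (E := E) hb hm)
      rwa [hab] at this
    · have hj' : j = ((k + 1 : ℕ) : ZMod n) := ZMod.val_injective n (by rw [hv]; omega)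
      have hb : b = 0 := by
        rw [hj'] at hab
        exact add_eq_left.mp hab
      rw [hb, hE0, AddSubgroup.mem_bot] at hm
      rw [hm, lie_zero]
      exact Gen.zero _
  | zero j => intro b m _ _; rw [zero_lie]; exact Gen.zero _
  | add _ _ ih1 ih2 =>
    intro b m hm hab
    rw [add_lie]; exact (ih1 b m hm hab).add (ih2 b m hm hab)
  | neg _ ih => intro b m hm hab; rw [neg_lie]; exact (ih b m hm hab).neg
  | @brk a₁ a₂ u v hu hv ihu ihv =>
    intro b m hm hab
    rw [lie_lie, sub_eq_add_neg]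
    exact (ihu (a₂ + b) _ (hE _ _ _ (hv.mem hE) _ hm) (by rw [← hab, add_assoc])).add
      (ihv (a₁ + b) _ (hE _ _ _ (hu.mem hE) _ hm) (by rw [← hab]; abel)).neg

theorem gen_trans {E F : ZMod n → AddSubgroup L} {k k' : ℕ}
    (h : ∀ j : ZMod n, k < j.val → ∀ x ∈ F j, Gen E k' j x) {j : ZMod n} {x : L}
    (hx : Gen F k j x) : Gen E k' j x := by
  induction hx with
  | base hj hx => exact h _ hj _ hx
  | zero j => exact Gen.zero j
  | add _ _ h1 h2 => exact h1.add h2
  | neg _ h1 => exact h1.neg
  | brk _ _ h1 h2 => exact h1.brk h2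

theorem kreknin_aux [NeZero n] : ∀ k, k < n → ∀ (E : ZMod n → AddSubgroup L), IsGr E → E 0 = ⊥ →
    ∀ i, ∀ x ∈ der^[2 ^ k - 1] E i, Gen E k i x := by
  intro k
  induction k with
  | zero =>
    intro _ E _ hE0 i x hx
    simp only [pow_zero, Nat.sub_self, Function.iterate_zero_apply] at hx
    rcases Nat.eq_zero_or_pos i.val with hi | hi
    · rw [ZMod.val_eq_zero] at hi
      rw [hi, hE0, AddSubgroup.mem_bot] at hx
      rw [hx]; exact Gen.zero i
    · exact Gen.base hi hx
  | succ k ih =>
    intro hk E hE hE0 i x hx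
    have hs : 2 ^ (k + 1) - 1 = (2 ^ k - 1) + (2 ^ k - 1).succ := by
      have := Nat.one_le_two_pow (n := k)
      rw [pow_succ]; omega
    rw [hs, Function.iterate_add_apply, Function.iterate_succ_apply'] at hx
    set M := der^[2 ^ k - 1] E
    obtain ⟨hM, hME⟩ := iterate_der E hE (2 ^ k - 1)
    have h0 : der M 0 = ⊥ := le_bot_iff.mp (((der_le hM 0).trans (hME 0)).trans hE0.le)
    refine gen_trans ?_ (ih (by omega) (der M) (isGr_der hM) h0 i x hx)
    intro j hj y hy
    rcases Nat.lt_or_ge (k + 1) j.val with hlt | hge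
    · exact Gen.base hlt ((hME j) (der_le hM j hy))
    have hj' : j = ((k + 1 : ℕ) : ZMod n) :=
      ZMod.val_injective n (by rw [ZMod.val_cast_of_lt hk]; omega)
    subst hj'
    induction hy using AddSubgroup.closure_induction with
    | mem z hz =>
      obtain ⟨a, b, hab, u, hu, v, hv, rfl⟩ := hz
      exact gen_bracket hE hE0 hk (ih (by omega) E hE hE0 a u hu) b v (hME b hv) hab
    | zero => exact Gen.zero _
    | add _ _ _ _ h1 h2 => exact h1.add h2
    | neg _ _ h1 => exact h1.neg

/-- **Kreknin's theorem**: a `ZMod n`-graded Lie ring with trivial zero component is soluble of derived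
length at most `2 ^ (n - 1) - 1`. -/
theorem kreknin [NeZero n] {E : ZMod n → AddSubgroup L} (hE : IsGr E) (hE0 : E 0 = ⊥) (i : ZMod n) :
    der^[2 ^ (n - 1) - 1] E i = ⊥ := by
  rw [eq_bot_iff]
  intro x hx
  rw [AddSubgroup.mem_bot]
  have h := kreknin_aux (n - 1) (Nat.sub_lt (NeZero.pos n) one_pos) E hE hE0 i x hx
  clear hx
  induction h with
  | @base j x hj hx => have := j.val_lt; omega
  | zero j => rfl
  | add _ _ h1 h2 => rw [h1, h2, add_zero]
  | neg _ h1 => rw [h1, neg_zero]
  | brk _ _ h1 _ => rw [h1, zero_lie]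

/-- The lower central series of a family, indexed from zero. -/
def cls (E : ZMod n → AddSubgroup L) : ℕ → ZMod n → AddSubgroup L
  | 0 => E
  | m + 1 => brkFam (cls E m) E

theorem cls_le {E : ZMod n → AddSubgroup L} (hE : IsGr E) : ∀ m i, cls E m i ≤ E i
  | 0, _ => le_rfl
  | m + 1, i => brkFam_le (fun a b x hx y hy => hE a b x (cls_le hE m a hx) y hy) i

theorem cls_bracket {E : ZMod n → AddSubgroup L} (hE : IsGr E) :
    ∀ v u a b, ∀ x ∈ cls E u a, ∀ y ∈ cls E v b, ⁅x, y⁆ ∈ cls E (u + v + 1) (a + b) := by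
  intro v
  induction v with
  | zero => exact fun u a b x hx y hy => mem_brkFam hx hy
  | succ v ih =>
    intro u a b x hx y hy
    induction hy using AddSubgroup.closure_induction with
    | mem z hz =>
      obtain ⟨b₁, b₂, rfl, y₁, hy₁, y₂, hy₂, rfl⟩ := hz
      rw [leibniz_lie, ← lie_skew y₁ ⁅x, y₂⁆, ← sub_eq_add_neg]
      refine sub_mem ?_ ?_
      · have h1 := mem_brkFam (F := E) (ih u a b₁ x hx y₁ hy₁) hy₂
        rw [← add_assoc a]
        exact h1
      · have h2 := ih (u + 1) (a + b₂) b₁ ⁅x, y₂⁆ (mem_brkFam hx hy₂) y₁ hy₁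
        rw [show a + (b₁ + b₂) = a + b₂ + b₁ by abel, show u + (v + 1) + 1 = u + 1 + v + 1 by omega]
        exact h2
    | zero => rw [lie_zero]; exact zero_mem _
    | add _ _ _ _ h1 h2 => rw [lie_add]; exact add_mem h1 h2
    | neg _ _ h1 => rw [lie_neg]; exact neg_mem h1

/-- A bracket ideal of a family. -/
abbrev IsIdl (E B : ZMod n → AddSubgroup L) : Prop :=
  (∀ i, B i ≤ E i) ∧ ∀ a b, ∀ x ∈ B a, ∀ y ∈ E b, ⁅x, y⁆ ∈ B (a + b)

theorem isIdl_der {E B : ZMod n → AddSubgroup L} (hE : IsGr E) (hB : IsIdl E B) : IsIdl E (der B) := by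
  refine ⟨fun i => brkFam_le (fun a b x hx y hy => hE a b x (hB.1 a hx) y (hB.1 b hy)) i, ?_⟩
  intro a b x hx y hy
  induction hx using AddSubgroup.closure_induction with
  | mem z hz =>
    obtain ⟨a₁, a₂, rfl, u, hu, v, hv, rfl⟩ := hz
    rw [lie_lie, sub_eq_add_neg, lie_skew]
    refine add_mem ?_ ?_
    · rw [add_assoc]
      exact mem_brkFam hu (hB.2 a₂ b v hv y hy)
    · rw [show a₁ + a₂ + b = a₁ + b + a₂ by abel]
      exact mem_brkFam (hB.2 a₁ b u hu y hy) hv
  | zero => rw [zero_lie]; exact zero_mem _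
  | add _ _ _ _ h1 h2 => rw [add_lie]; exact add_mem h1 h2
  | neg _ _ h1 => rw [neg_lie]; exact neg_mem h1

theorem isIdl_iterate_der {E : ZMod n → AddSubgroup L} (hE : IsGr E) :
    ∀ s, IsIdl E (der^[s] E)
  | 0 => ⟨fun _ => le_rfl, hE⟩
  | s + 1 => by rw [Function.iterate_succ_apply']; exact isIdl_der hE (isIdl_iterate_der hE s)

theorem exists_sublist_sum {p : ℕ} [Fact p.Prime] (l : List (ZMod p)) (hl : ∀ x ∈ l, x ≠ 0)
    (hlen : p - 1 ≤ l.length) (r : ZMod p) : ∃ T, List.Sublist T l ∧ T.sum = r := by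
  classical
  suffices h : ∀ l : List (ZMod p), (∀ x ∈ l, x ≠ 0) → ∃ S : Finset (ZMod p),
      (∀ r ∈ S, ∃ T, List.Sublist T l ∧ T.sum = r) ∧ (S = Finset.univ ∨ l.length + 1 ≤ S.card) by
    obtain ⟨S, hS, hS'⟩ := h l hl
    refine hS r ?_
    rcases hS' with hS' | hS'
    · exact hS' ▸ Finset.mem_univ r
    · have : S = Finset.univ := by
        refine Finset.eq_univ_of_card S (le_antisymm (Finset.card_le_univ S) ?_)
        rw [ZMod.card]
        have := (Fact.out : p.Prime).one_le
        omega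
      exact this ▸ Finset.mem_univ r
  intro l
  induction l with
  | nil =>
    intro _
    exact ⟨{0}, fun r hr => ⟨[], List.Sublist.refl _, (Finset.mem_singleton.mp hr).symm⟩, Or.inr (by simp)⟩
  | cons x l ih =>
    intro hl
    obtain ⟨S, hS, hS'⟩ := ih fun y hy => hl y (List.mem_cons_of_mem _ hy)
    refine ⟨S ∪ S.image (x + ·), fun r hr => ?_, ?_⟩
    · rcases Finset.mem_union.mp hr with hr | hr
      · obtain ⟨T, hT, hTs⟩ := hS r hr
        exact ⟨T, hT.cons x, hTs⟩
      · obtain ⟨r', hr', rfl⟩ := Finset.mem_image.mp hr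
        obtain ⟨T, hT, hTs⟩ := hS r' hr'
        exact ⟨x :: T, hT.cons_cons x, by rw [List.sum_cons, hTs]⟩
    · by_cases hne : S.Nonempty
      swap
      · rcases hS' with hS' | hS'
        · exact absurd (hS' ▸ Finset.univ_nonempty) hne
        · rw [Finset.not_nonempty_iff_eq_empty.mp hne, Finset.card_empty] at hS'
          omega
      by_cases hsub : S.image (x + ·) ⊆ S
      · refine Or.inl (Finset.eq_univ_of_forall fun r => Finset.mem_union_left _ ?_)
        obtain ⟨s₀, hs₀⟩ := hne
        have hm : ∀ m : ℕ, (m : ZMod p) * x + s₀ ∈ S := by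
          intro m
          induction m with
          | zero => simpa using hs₀
          | succ m hm =>
            refine hsub (Finset.mem_image.mpr ⟨_, hm, ?_⟩)
            push_cast; ring
        have := hm ((r - s₀) * x⁻¹).val
        rwa [ZMod.natCast_zmod_val, mul_assoc, inv_mul_cancel₀ (hl x List.mem_cons_self), mul_one,
          sub_add_cancel] at this
      · rcases hS' with hS' | hS'
        · exact absurd (hS' ▸ Finset.subset_univ _) hsub
        · refine Or.inr ?_
          obtain ⟨y, hy, hy'⟩ := Finset.not_subset.mp hsub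
          have : S.card < (S ∪ S.image (x + ·)).card := Finset.card_lt_card
            ⟨Finset.subset_union_left, fun h => hy' (h (Finset.mem_union_right _ hy))⟩
          rw [List.length_cons]; omega

/-- Iterated right bracketing by a list of homogeneous elements (degree, depth, element). -/
def fold (a : L) (l : List (ZMod n × ℕ × L)) : L := l.foldl (fun z e => ⁅z, e.2.2⁆) a

theorem fold_append (a : L) (l l' : List (ZMod n × ℕ × L)) :
    fold a (l ++ l') = fold (fold a l) l' := List.foldl_append ..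

theorem fold_zero : ∀ l : List (ZMod n × ℕ × L), fold (0 : L) l = 0
  | [] => rfl
  | e :: l => by
    show fold ⁅(0 : L), e.2.2⁆ l = 0
    rw [zero_lie]; exact fold_zero l

theorem fold_sub : ∀ (l : List (ZMod n × ℕ × L)) (a b : L), fold (a - b) l = fold a l - fold b l
  | [], _, _ => rfl
  | e :: l, a, b => by
    show fold ⁅a - b, e.2.2⁆ l = fold ⁅a, e.2.2⁆ l - fold ⁅b, e.2.2⁆ l
    rw [sub_lie]; exact fold_sub l _ _

/-- The degree of a list of homogeneous elements. -/
def deg (l : List (ZMod n × ℕ × L)) : ZMod n := (l.map Prod.fst).sum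

/-- The weight of a list of homogeneous elements. -/
def wt (l : List (ZMod n × ℕ × L)) : ℕ := (l.map fun e => e.2.1 + 1).sum

theorem fold_mem {E B : ZMod n → AddSubgroup L} (hB : IsIdl E B) :
    ∀ (l : List (ZMod n × ℕ × L)), (∀ e ∈ l, e.2.2 ∈ E e.1) → ∀ (g : ZMod n) (a : L), a ∈ B g →
      fold a l ∈ B (g + deg l) := by
  intro l
  induction l with
  | nil => intro _ g a ha; simpa [deg, fold] using ha
  | cons e l ih =>
    intro hl g a ha
    have := ih (fun e' he' => hl e' (List.mem_cons_of_mem _ he')) (g + e.1) ⁅a, e.2.2⁆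
      (hB.2 _ _ a ha _ (hl e List.mem_cons_self))
    show fold ⁅a, e.2.2⁆ l ∈ B (g + deg (e :: l))
    rwa [deg, List.map_cons, List.sum_cons, ← add_assoc]

/-- Good lists: members homogeneous of the stated depth. -/
abbrev Good (E : ZMod n → AddSubgroup L) (l : List (ZMod n × ℕ × L)) : Prop :=
  ∀ e ∈ l, e.2.2 ∈ cls E e.2.1 e.1

theorem fold_kill {p : ℕ} [Fact p.Prime] {E A B : ZMod p → AddSubgroup L} (hE : IsGr E) (hE0 : E 0 = ⊥)
    (hA : IsIdl E A) (hB : IsIdl E B) (f : ℕ) (hAA : ∀ a b, ∀ x ∈ A a, ∀ y ∈ A b, ⁅x, y⁆ ∈ B (a + b))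
    (hf : ∀ w, f ≤ w → ∀ i, cls E w i ≤ A i) :
    ∀ (r : ℕ) (g : ZMod p) (a : L), a ∈ A g → ∀ l, Good E l → l.length = r → (p - 2) * f < wt l →
      fold a l ∈ B (g + deg l) := by
  intro r
  induction r with
  | zero =>
    intro g a _ l _ hl hw
    rw [List.length_eq_zero_iff.mp hl] at hw
    simp [wt] at hw
  | succ r ih =>
    intro g a ha l hgood hl hw
    have hgE : ∀ {l' : List (ZMod p × ℕ × L)}, Good E l' → ∀ e ∈ l', e.2.2 ∈ E e.1 :=
      fun h e he => cls_le hE _ _ (h e he)
    by_cases hbig : ∃ e ∈ l, f ≤ e.2.1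
    · obtain ⟨e, he, hef⟩ := hbig
      obtain ⟨pre, post, rfl⟩ := List.append_of_mem he
      rw [fold_append]
      have h1 := fold_mem hA pre (fun e' he' => hgE hgood e' (List.mem_append_left _ he')) g a ha
      have h2 := hAA _ _ _ h1 _ (hf _ hef _ (hgood e he))
      have h3 := fold_mem hB post
        (fun e' he' => hgE hgood e' (List.mem_append_right _ (List.mem_cons_of_mem _ he'))) _ _ h2
      show fold ⁅fold a pre, e.2.2⁆ post ∈ _
      have hdeg : deg (pre ++ e :: post) = deg pre + (e.1 + deg post) := by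
        simp [deg]
      rw [hdeg, ← add_assoc, ← add_assoc]
      exact h3
    push Not at hbig
    by_cases hz : ∃ e ∈ l, e.1 = 0
    · obtain ⟨e, he, he0⟩ := hz
      obtain ⟨pre, post, rfl⟩ := List.append_of_mem he
      have : e.2.2 = 0 := by
        have := cls_le hE _ _ (hgood e he)
        rwa [he0, hE0, AddSubgroup.mem_bot] at this
      rw [fold_append, show fold (fold a pre) (e :: post) = fold ⁅fold a pre, e.2.2⁆ post from rfl, this,
        lie_zero, fold_zero]
      exact zero_mem _
    push Not at hz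
    have hlong : p - 1 ≤ l.length := by
      have hle : ∀ l' : List (ZMod p × ℕ × L), (∀ e ∈ l', e.2.1 < f) → wt l' ≤ l'.length * f := by
        intro l'
        induction l' with
        | nil => simp [wt]
        | cons e l' ih' =>
          intro h
          have h1 := ih' fun e' he' => h e' (List.mem_cons_of_mem _ he')
          have h2 := h e List.mem_cons_self
          simp only [wt, List.map_cons, List.sum_cons, List.length_cons] at h1 ⊢
          rw [Nat.succ_mul]
          omega
      by_contra hlt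
      have h1 : l.length * f ≤ (p - 2) * f := Nat.mul_le_mul_right _ (by omega)
      have h2 := hle l hbig
      omega
    obtain ⟨T, hT, hTs⟩ := exists_sublist_sum (l.map Prod.fst)
      (fun x hx => by obtain ⟨e, he, rfl⟩ := List.mem_map.mp hx; exact hz e he)
      (by rwa [List.length_map]) (-g)
    obtain ⟨T', hT', rfl⟩ := List.sublist_map_iff.mp hT
    obtain ⟨rest, hperm⟩ := hT'.exists_perm_append
    have hswap : ∀ {l₁ l₂ : List (ZMod p × ℕ × L)}, List.Perm l₁ l₂ → ∀ pre, Good E (pre ++ l₁) →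
        (pre ++ l₁).length = r + 1 → (p - 2) * f < wt (pre ++ l₁) →
          fold a (pre ++ l₁) - fold a (pre ++ l₂) ∈ B (g + deg (pre ++ l₁)) := by
      intro l₁ l₂ h
      induction h with
      | nil => intros; rw [sub_self]; exact zero_mem _
      | cons e _ ihp =>
        intro pre
        have := ihp (pre ++ [e])
        simpa only [List.append_assoc, List.singleton_append] using this
      | swap x y t =>
        intro pre hg' hlen hw'
        rw [fold_append, fold_append]
        show fold ⁅⁅fold a pre, y.2.2⁆, x.2.2⁆ t - fold ⁅⁅fold a pre, x.2.2⁆, y.2.2⁆ t ∈ _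
        rw [← fold_sub, lie_lie, sub_sub, ← lie_skew ⁅fold a pre, x.2.2⁆ y.2.2, add_neg_cancel, sub_zero]
        have hy : y.2.2 ∈ cls E y.2.1 y.1 := hg' y (by simp)
        have hx : x.2.2 ∈ cls E x.2.1 x.1 := hg' x (by simp)
        have h1 := ih g a ha (pre ++ (y.1 + x.1, y.2.1 + x.2.1 + 1, ⁅y.2.2, x.2.2⁆) :: t) (by
            intro e he
            simp only [List.mem_append, List.mem_cons] at he
            rcases he with he | rfl | he
            · exact hg' e (by simp [he])
            · exact cls_bracket hE _ _ _ _ _ hy _ hx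
            · exact hg' e (by simp [he]))
          (by simp only [List.length_append, List.length_cons] at hlen ⊢; omega)
          (by
            simp only [wt, List.map_append, List.map_cons, List.sum_append, List.sum_cons] at hw' ⊢
            omega)
        have hdeg : deg (pre ++ y :: x :: t) =
            deg (pre ++ (y.1 + x.1, y.2.1 + x.2.1 + 1, ⁅y.2.2, x.2.2⁆) :: t) := by
          simp [deg, add_assoc]
        rw [hdeg]
        rw [fold_append] at h1
        exact h1
      | @trans l₁ l₂ l₃ h₁ _ ih₁ ih₂ =>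
        intro pre hg' hlen hw'
        have hp' : List.Perm (pre ++ l₁) (pre ++ l₂) := h₁.append_left pre
        have e1 := ih₁ pre hg' hlen hw'
        have e2 := ih₂ pre (fun e he => hg' e (hp'.mem_iff.mpr he)) (hp'.length_eq ▸ hlen)
          (by rw [wt, ← (hp'.map (fun e => e.2.1 + 1)).sum_eq]; exact hw')
        have hd : deg (pre ++ l₂) = deg (pre ++ l₁) := ((hp'.map Prod.fst).sum_eq).symm
        rw [hd] at e2
        have := add_mem e1 e2
        rwa [sub_add_sub_cancel] at this
    have h1 := hswap hperm [] hgood hl hw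
    simp only [List.nil_append] at h1
    have h2 : fold a (T' ++ rest) = 0 := by
      have hTgood : ∀ e ∈ T', e.2.2 ∈ E e.1 := fun e he => hgE hgood e (hT'.subset he)
      have h3 := hA.1 _ (fold_mem hA T' hTgood g a ha)
      have h4 : g + deg T' = 0 := by rw [deg, hTs, add_neg_cancel]
      rw [h4, hE0, AddSubgroup.mem_bot] at h3
      rw [fold_append, h3, fold_zero]
    rwa [h2, sub_zero] at h1

/-- `1 + m + ... + m ^ (s - 1)`. -/
abbrev geomBound (m s : ℕ) : ℕ := ∑ i ∈ Finset.range s, m ^ i

theorem geomBound_succ (m s : ℕ) : geomBound m (s + 1) = m * geomBound m s + 1 := by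
  rw [geomBound, Finset.sum_range_succ', Finset.mul_sum]
  simp [pow_succ, mul_comm]

theorem cls_le_of_der {p : ℕ} [Fact p.Prime] {E : ZMod p → AddSubgroup L} (hE : IsGr E) (hE0 : E 0 = ⊥) :
    ∀ s, ∀ B : ZMod p → AddSubgroup L, IsIdl E B → (∀ i, der^[s] E i ≤ B i) →
      ∀ w, geomBound (p - 1) s ≤ w → ∀ i, cls E w i ≤ B i := by
  intro s
  induction s with
  | zero => exact fun B _ h w _ i => (cls_le hE w i).trans (h i)
  | succ s ih =>
    intro B hB hs w hw
    set D := der^[s] E with hD
    have hDI : IsIdl E D := isIdl_iterate_der hE s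
    set A : ZMod p → AddSubgroup L := fun i => D i ⊔ B i with hAdef
    have hA : IsIdl E A := by
      refine ⟨fun i => sup_le (hDI.1 i) (hB.1 i), fun a b x hx y hy => ?_⟩
      obtain ⟨d, hd, c, hc, rfl⟩ := AddSubgroup.mem_sup.mp hx
      rw [add_lie]
      exact add_mem (AddSubgroup.mem_sup_left (hDI.2 a b d hd y hy))
        (AddSubgroup.mem_sup_right (hB.2 a b c hc y hy))
    have hAA : ∀ a b, ∀ x ∈ A a, ∀ y ∈ A b, ⁅x, y⁆ ∈ B (a + b) := by
      intro a b x hx y hy
      obtain ⟨d, hd, c, hc, rfl⟩ := AddSubgroup.mem_sup.mp hx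
      obtain ⟨d', hd', c', hc', rfl⟩ := AddSubgroup.mem_sup.mp hy
      rw [add_lie]
      refine add_mem ?_ (hB.2 a b c hc _ (hA.1 b hy))
      rw [lie_add]
      refine add_mem (hs _ ?_) ?_
      · rw [Function.iterate_succ_apply']
        exact mem_brkFam hd hd'
      · rw [← lie_skew, add_comm a b]
        exact neg_mem (hB.2 b a c' hc' d (hDI.1 a hd))
    set f := geomBound (p - 1) s
    have hf : ∀ w, f ≤ w → ∀ i, cls E w i ≤ A i := ih A hA fun i => le_sup_left
    have hgen : ∀ m i, cls E (f + m) i ≤ AddSubgroup.closure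
        {z | ∃ g a l, a ∈ A g ∧ Good E l ∧ l.length = m ∧ wt l = m ∧ g + deg l = i ∧ fold a l = z} := by
      intro m
      induction m with
      | zero =>
        intro i z hz
        exact AddSubgroup.subset_closure
          ⟨i, z, [], hf f le_rfl i hz, by simp [Good], rfl, rfl, by simp [deg], rfl⟩
      | succ m ihm =>
        refine brkFam_le ?_
        intro a b x hx y hy
        have hx' := ihm a hx
        clear hx
        induction hx' using AddSubgroup.closure_induction with
        | mem z hz =>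
          obtain ⟨g, a', l, ha', hl, hlen, hwt, rfl, rfl⟩ := hz
          refine AddSubgroup.subset_closure ⟨g, a', l ++ [(b, 0, y)], ha', ?_, ?_, ?_, ?_, ?_⟩
          · intro e he
            rcases List.mem_append.mp he with he | he
            · exact hl e he
            · rw [List.mem_singleton.mp he]; exact hy
          · simp [hlen]
          · simp only [wt] at hwt ⊢
            simp [hwt]
          · simp [deg, add_assoc]
          · rw [fold_append]; rfl
        | zero => rw [zero_lie]; exact zero_mem _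
        | add _ _ _ _ h1 h2 => rw [add_lie]; exact add_mem h1 h2
        | neg _ _ h1 => rw [neg_lie]; exact neg_mem h1
    have hbound : f + ((p - 2) * f + 1) ≤ w := by
      refine le_trans (le_of_eq ?_) hw
      have hp := (Fact.out : p.Prime).two_le
      have h1 : (p - 1) * f = (p - 2) * f + f := by
        rw [show p - 1 = (p - 2) + 1 by omega, Nat.succ_mul]
      rw [geomBound_succ]
      change f + ((p - 2) * f + 1) = (p - 1) * f + 1
      omega
    obtain ⟨d, rfl⟩ := Nat.exists_eq_add_of_le (le_trans (Nat.le_add_right _ _) hbound)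
    intro i
    refine (hgen d i).trans ((AddSubgroup.closure_le _).mpr ?_)
    rintro _ ⟨g, a, l, ha, hl, -, hwt, rfl, rfl⟩
    exact fold_kill hE hE0 hA hB f hAA hf l.length g a ha l hl rfl (by omega)

/-- **Higman, Kreknin, Kostrikin**: class bound for a graded Lie ring of prime modulus with trivial zero
component. -/
theorem cls_le_bot_of_prime {p : ℕ} [Fact p.Prime] {E : ZMod p → AddSubgroup L} (hE : IsGr E)
    (hE0 : E 0 = ⊥) (i : ZMod p) : cls E (geomBound (p - 1) (2 ^ (p - 1) - 1)) i = ⊥ := by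
  refine le_bot_iff.mp (cls_le_of_der hE hE0 (2 ^ (p - 1) - 1) (fun _ => ⊥)
    ⟨fun _ => bot_le, fun a b x hx y _ => ?_⟩ (fun j => (kreknin hE hE0 j).le) _ le_rfl i)
  rw [AddSubgroup.mem_bot] at hx ⊢
  rw [hx, zero_lie]

theorem three_cases : ∀ a₁ a₂ b : ZMod 3, a₁ + a₂ ≠ 0 → a₁ + a₂ + b ≠ 0 →
    a₁ = 0 ∨ a₂ = 0 ∨ b = 0 ∨ a₁ + b = 0 ∧ a₂ + b = 0 := by
  decide

theorem cls_two_le_bot_of_three {E : ZMod 3 → AddSubgroup L} (hE : IsGr E) (hE0 : E 0 = ⊥) (i : ZMod 3) :
    cls E 2 i = ⊥ := by
  refine le_bot_iff.mp (brkFam_le (K := fun _ => ⊥) (fun a b x hx y hy => ?_) i)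
  induction hx using AddSubgroup.closure_induction with
  | mem z hz =>
    obtain ⟨a₁, a₂, rfl, u, hu, v, hv, rfl⟩ := hz
    rw [AddSubgroup.mem_bot]
    by_cases h1 : a₁ + a₂ = 0
    · have := hE _ _ u hu v hv
      rw [h1, hE0, AddSubgroup.mem_bot] at this
      rw [this, zero_lie]
    by_cases hab : a₁ + a₂ + b = 0
    · have := hE _ _ _ (hE _ _ u hu v hv) y hy
      rwa [hab, hE0, AddSubgroup.mem_bot] at this
    have hcase := three_cases a₁ a₂ b h1 hab
    change u ∈ E a₁ at hu
    rcases hcase with rfl | rfl | rfl | ⟨h2, h3⟩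
    · rw [hE0, AddSubgroup.mem_bot] at hu
      rw [hu, zero_lie, zero_lie]
    · rw [hE0, AddSubgroup.mem_bot] at hv
      rw [hv, lie_zero, zero_lie]
    · rw [hE0, AddSubgroup.mem_bot] at hy
      rw [hy, lie_zero]
    · have e1 := hE _ _ u hu y hy
      have e2 := hE _ _ v hv y hy
      rw [h2, hE0, AddSubgroup.mem_bot] at e1
      rw [h3, hE0, AddSubgroup.mem_bot] at e2
      rw [lie_lie, e1, e2, lie_zero, lie_zero, sub_zero]
  | zero => rw [zero_lie]; exact zero_mem _
  | add _ _ _ _ h1 h2 => rw [add_lie]; exact add_mem h1 h2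
  | neg _ _ h1 => rw [neg_lie]; exact neg_mem h1

end Cfsg.Agent.FPFLie
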