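/-
The class bound for finite groups with a fixed-point-free automorphism of prime order (helper70).

Main results (namespace `Cfsg.Agent.FPFLie`): `word_eq_zero`, `class_bound`.
-/
import Cfsg.Agent.Lib.FPFLie.Kreknin
import Cfsg.Agent.Lib.FPFLie.Assoc
import Cfsg.Agent.Lib.FPF.Basic

set_option autoImplicit false
open scoped commutatorElement

namespace Cfsg.Agent.FPFLie

variable (p : ℕ) (L : Type*)

/-- Functions on `ZMod p` with the convolution bracket. -/
def Conv : Type _ := ZMod p → L

variable {p L}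
variable [LieRing L]

noncomputable instance : AddCommGroup (Conv p L) := inferInstanceAs (AddCommGroup (ZMod p → L))

@[ext] theorem Conv.ext {f g : Conv p L} (h : ∀ k, f k = g k) : f = g := funext h

variable [NeZero p]

noncomputable instance : Bracket (Conv p L) (Conv p L) := ⟨fun f g k => ∑ i : ZMod p, ⁅f i, g (k - i)⁆⟩

theorem conv_apply (f g : Conv p L) (k : ZMod p) : ⁅f, g⁆ k = ∑ i : ZMod p, ⁅f i, g (k - i)⁆ := rfl

omit [NeZero p] in
theorem conv_add_apply (f g : Conv p L) (k : ZMod p) : (f + g) k = f k + g k := rfl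

omit [NeZero p] in
theorem conv_zero_apply (k : ZMod p) : (0 : Conv p L) k = 0 := rfl

noncomputable instance : LieRing (Conv p L) where
  add_lie f g h := by
    ext k
    simp only [conv_apply, conv_add_apply, add_lie, Finset.sum_add_distrib]
  lie_add f g h := by
    ext k
    simp only [conv_apply, conv_add_apply, lie_add, Finset.sum_add_distrib]
  lie_self f := by
    ext k
    rw [conv_apply, conv_zero_apply]
    refine Finset.sum_involution (fun i _ => k - i) ?_ ?_ (fun _ _ => Finset.mem_univ _) ?_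
    · intro i _
      rw [sub_sub_cancel, ← lie_skew (f (k - i)) (f i), add_neg_cancel]
    · intro i _ hne heq
      rw [heq] at hne
      exact hne (lie_self _)
    · intro i _
      exact sub_sub_cancel k i
  leibniz_lie f g h := by
    ext k
    rw [conv_add_apply]
    simp only [conv_apply, lie_sum, sum_lie]
    rw [Finset.sum_comm (f := fun i j => ⁅⁅f j, g (i - j)⁆, h (k - i)⁆),
      Finset.sum_comm (f := fun i j => ⁅g i, ⁅f j, h (k - i - j)⁆⁆), ← Finset.sum_add_distrib]
    refine Finset.sum_congr rfl fun i _ => ?_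
    rw [← Equiv.sum_comp (Equiv.addRight i) (fun j => ⁅⁅f i, g (j - i)⁆, h (k - j)⁆),
      ← Finset.sum_add_distrib]
    refine Finset.sum_congr rfl fun j _ => ?_
    rw [Equiv.coe_addRight, add_sub_cancel_right, show k - (j + i) = k - i - j by abel,
      show k - j - i = k - i - j by abel]
    exact leibniz_lie _ _ _

variable (T : L →+ L)

/-- The eigen-components of the extended map. -/
def eig (j : ZMod p) : AddSubgroup (Conv p L) where
  carrier := {f | ∀ k, T (f k) = f (k - j)}
  add_mem' := by intro f g hf hg k; rw [conv_add_apply, map_add, hf k, hg k]; rfl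
  zero_mem' := fun k => map_zero T
  neg_mem' := by intro f hf k; exact (map_neg T (f k)).trans (congrArg Neg.neg (hf k))

theorem isGr_eig (hT : ∀ x y, T ⁅x, y⁆ = ⁅T x, T y⁆) : IsGr (eig (p := p) T) := by
  intro a b f hf g hg k
  rw [conv_apply, conv_apply, map_sum, ← Equiv.sum_comp (Equiv.addRight a)]
  refine Finset.sum_congr rfl fun i _ => ?_
  rw [Equiv.coe_addRight, hT, hf, hg, add_sub_cancel_right, show k - (i + a) - b = k - (a + b) - i by abel]

theorem eig_zero (hfix : ∀ x, T x = x → x = 0) : eig (p := p) T 0 = ⊥ := by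
  rw [eq_bot_iff]
  intro f hf
  rw [AddSubgroup.mem_bot]
  ext k
  exact hfix _ ((hf k).trans (by rw [sub_zero]))

theorem iterate_mod (hTp : ∀ x, T^[p] x = x) (m : ℕ) (x : L) : T^[m] x = T^[m % p] x := by
  conv_lhs => rw [← Nat.mod_add_div m p, Function.iterate_add_apply, Function.iterate_mul]
  congr 1
  exact Function.iterate_fixed (hTp x) _

/-- The projection of a constant into an eigen-component. -/
def proj (j : ZMod p) (x : L) : Conv p L := fun k => T^[(-k * j⁻¹).val] x

theorem proj_mem [Fact p.Prime] (hTp : ∀ x, T^[p] x = x) {j : ZMod p} (hj : j ≠ 0) (x : L) :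
    proj T j x ∈ eig T j := by
  intro k
  show T (T^[(-k * j⁻¹).val] x) = T^[(-(k - j) * j⁻¹).val] x
  rw [← Function.iterate_succ_apply' T, iterate_mod T hTp]
  congr 1
  rw [← ZMod.val_natCast]
  congr 1
  push_cast
  rw [ZMod.natCast_zmod_val, neg_sub, sub_mul, mul_inv_cancel₀ hj]
  ring

/-- The coefficient function `p δ - 1`. -/
def coef (k : ZMod p) : ℤ := (if k = 0 then (p : ℤ) else 0) - 1

theorem coef_conv (k : ZMod p) : ∑ i : ZMod p, coef i * coef (k - i) = (p : ℤ) * coef k := by
  simp only [coef, sub_mul, mul_sub, one_mul, mul_one, Finset.sum_sub_distrib, ite_mul, zero_mul, sub_eq_zero,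
    Finset.sum_ite_eq', Finset.sum_ite_eq, Finset.mem_univ, if_true, sub_zero, Finset.sum_const,
    Finset.card_univ, ZMod.card, nsmul_eq_mul, mul_ite, mul_zero]
  ring

/-- The embedding `x ↦ coef • x`. -/
def emb (x : L) : Conv p L := fun k => coef k • x

theorem lie_emb (x y : L) (m : ℤ) :
    ⁅(m • emb (p := p) x : Conv p L), emb y⁆ = (m * (p : ℤ)) • emb (p := p) ⁅x, y⁆ := by
  ext k
  show ∑ i : ZMod p, ⁅m • (coef i • x), coef (k - i) • y⁆ = (m * (p : ℤ)) • (coef k • ⁅x, y⁆)
  simp only [zsmul_lie, lie_zsmul, smul_smul, ← Finset.sum_smul]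
  congr 1
  rw [mul_assoc m, ← coef_conv, Finset.mul_sum]
  exact Finset.sum_congr rfl fun i _ => by ring

theorem emb_eq_sum [Fact p.Prime] (hfix : ∀ x, T x = x → x = 0) (hTp : ∀ x, T^[p] x = x) (x : L) :
    emb (p := p) x = ∑ j ∈ Finset.univ.erase (0 : ZMod p), proj T j x := by
  classical
  have hS : ∑ i : ZMod p, T^[i.val] x = 0 := by
    refine hfix _ ?_
    rw [map_sum, ← Equiv.sum_comp (Equiv.addRight (1 : ZMod p)) (fun i => T^[i.val] x)]
    refine Finset.sum_congr rfl fun i _ => ?_
    rw [← Function.iterate_succ_apply' T, iterate_mod T hTp, Equiv.coe_addRight, ← ZMod.val_natCast]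
    push_cast
    rw [ZMod.natCast_zmod_val]
  ext k
  show coef k • x = (∑ j ∈ Finset.univ.erase (0 : ZMod p), proj T j x : ZMod p → L) k
  erw [Finset.sum_apply]
  show coef k • x = ∑ j ∈ Finset.univ.erase (0 : ZMod p), T^[(-k * j⁻¹).val] x
  by_cases hk : k = 0
  · subst hk
    simp only [coef, if_true, neg_zero, zero_mul, ZMod.val_zero, Function.iterate_zero_apply, Finset.sum_const,
      Finset.card_erase_of_mem (Finset.mem_univ _), Finset.card_univ, ZMod.card]
    rw [← natCast_zsmul, Nat.cast_sub (Fact.out : p.Prime).one_le, Nat.cast_one]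
  · rw [Finset.sum_nbij' (fun j => -k * j⁻¹) (fun i => -k * i⁻¹) (t := Finset.univ.erase (0 : ZMod p))
      (g := fun i => T^[i.val] x), Finset.sum_erase_eq_sub (Finset.mem_univ _), hS, ZMod.val_zero,
      Function.iterate_zero_apply, zero_sub, coef, if_neg hk, zero_sub, neg_smul, one_smul]
    · intro j hj
      simpa [hk] using hj
    · intro j hj
      simpa [hk] using hj
    · intro j hj
      simp [mul_inv_rev, mul_comm, hk]
    · intro j hj
      simp [mul_inv_rev, mul_comm, hk]
    · intros; rfl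

/-- The word `[x₀, x₁, ..., x_m]`. -/
def word (x₀ : L) (xs : List L) : L := xs.foldl (fun z y => ⁅z, y⁆) x₀

theorem emb_word_mem [Fact p.Prime] (hfix : ∀ x, T x = x → x = 0) (hTp : ∀ x, T^[p] x = x) (x₀ : L) :
    ∀ xs : List L, ((p : ℤ) ^ xs.length) • emb (p := p) (word x₀ xs) ∈ ⨆ i, cls (eig (p := p) T) xs.length i := by
  have h1 : ∀ x : L, emb (p := p) x ∈ ⨆ i, eig (p := p) T i := fun x => by
    rw [emb_eq_sum T hfix hTp x]
    exact sum_mem fun j hj => AddSubgroup.mem_iSup_of_mem j (proj_mem T hTp (Finset.ne_of_mem_erase hj) x)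
  intro xs
  induction xs using List.reverseRecOn with
  | nil => simpa [word, cls] using h1 x₀
  | append_singleton xs y ih =>
    have e : word x₀ (xs ++ [y]) = ⁅word x₀ xs, y⁆ := by simp [word]
    rw [e, List.length_append, List.length_singleton, pow_succ, ← lie_emb]
    have h2 := h1 y
    generalize ((p : ℤ) ^ xs.length) • emb (p := p) (word x₀ xs) = z at ih ⊢
    generalize emb (p := p) y = z' at h2 ⊢
    induction ih using AddSubgroup.iSup_induction' with
    | hp a u hu =>
      induction h2 using AddSubgroup.iSup_induction' with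
      | hp b v hv => exact AddSubgroup.mem_iSup_of_mem (a + b) (mem_brkFam hu hv)
      | h1 => rw [lie_zero]; exact zero_mem _
      | hadd _ _ _ _ h3 h4 => rw [lie_add]; exact add_mem h3 h4
    | h1 => rw [zero_lie]; exact zero_mem _
    | hadd _ _ _ _ h3 h4 => rw [add_lie]; exact add_mem h3 h4

theorem word_eq_zero [Fact p.Prime] (hfix : ∀ x, T x = x → x = 0)
    (hTp : ∀ x, T^[p] x = x) {w : ℕ} (hw : ∀ i, cls (eig (p := p) T) w i = ⊥)
    (htor : ∀ x : L, p ^ w • x = 0 → x = 0) (x₀ : L) (xs : List L) (hxs : xs.length = w) :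
    word x₀ xs = 0 := by
  have h := emb_word_mem T hfix hTp x₀ xs
  rw [hxs, iSup_congr hw, iSup_bot, AddSubgroup.mem_bot] at h
  have h1 : ((p : ℤ) ^ w) • (coef (1 : ZMod p) • word x₀ xs) = 0 := congrFun h 1
  rw [coef, if_neg one_ne_zero, zero_sub, neg_smul, one_smul, smul_neg, neg_eq_zero, ← Nat.cast_pow,
    natCast_zsmul] at h1
  exact htor _ h1

theorem e_mem_words {G : Type*} [Group G] : ∀ (m : ℕ) (g : G), g ∈ lcs G m →
    e m g ∈ AddSubgroup.closure {z : Gr G | ∃ x₀ xs, xs.length = m ∧ word x₀ xs = z} := by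
  intro m
  induction m with
  | zero => intro g _; exact AddSubgroup.subset_closure ⟨_, [], rfl, rfl⟩
  | succ m ih =>
    intro g hg
    induction hg using Subgroup.closure_induction with
    | mem z hz =>
      obtain ⟨a, ha, b, hb, rfl⟩ := hz
      rw [show m + 1 = m + 0 + 1 from rfl, ← lie_e (i := m) (j := 0) ha hb]
      generalize e 0 b = y
      have h := ih a ha
      generalize e m a = u at h ⊢
      induction h using AddSubgroup.closure_induction with
      | mem z hz =>
        obtain ⟨x₀, xs, hlen, rfl⟩ := hz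
        exact AddSubgroup.subset_closure ⟨x₀, xs ++ [y], by simp [hlen], by simp [word]⟩
      | zero => rw [zero_lie]; exact zero_mem _
      | add _ _ _ _ h3 h4 => rw [add_lie]; exact add_mem h3 h4
      | neg _ _ h3 => rw [neg_lie]; exact neg_mem h3
    | one => rw [e_one]; exact zero_mem _
    | mul a b ha hb h3 h4 => rw [e_mul ha hb]; exact add_mem h3 h4
    | inv a ha h3 => rw [e_inv ha]; exact neg_mem h3

theorem lcs_eq_of_step {G : Type*} [Group G] [hn : Group.IsNilpotent G] {w : ℕ}
    (h : lcs G w ≤ lcs G (w + 1)) : lcs G w = ⊥ := by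
  have hs : ∀ t, lcs G w ≤ lcs G (w + t) := by
    intro t
    induction t with
    | zero => exact le_rfl
    | succ t ih => exact h.trans (Subgroup.commutator_mono ih le_rfl)
  obtain ⟨c, hc⟩ := Subgroup.nilpotent_iff_lowerCentralSeries.mp hn
  exact le_bot_iff.mp ((hs c).trans ((lcs_mono (Nat.le_add_left c w)).trans hc.le))

/-- **Higman, Kreknin, Kostrikin**: the class of a nilpotent group with a fixed-point-free automorphism of
prime order. -/
theorem class_bound {G : Type*} [Group G] [Finite G] [Group.IsNilpotent G] {p : ℕ} [Fact p.Prime]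
    (α : MulAut G) (hα : orderOf α = p) (hfpf : ∀ g : G, α g = g → g = 1) :
    lcs G (geomBound (p - 1) (2 ^ (p - 1) - 1)) = ⊥ ∧ (p = 3 → lcs G 2 = ⊥) := by
  classical
  have hco : p.Coprime (Nat.card G) := by
    refine (Fact.out : p.Prime).coprime_iff_not_dvd.mpr
      (Cfsg.Agent.FPF.not_dvd_card (Subgroup.zpowers α).subtype ?_ fun g hg => hfpf g (hg ⟨α, Subgroup.mem_zpowers α⟩))
    exact IsPGroup.of_card (n := 1) (by rw [Nat.card_zpowers, hα, pow_one])
  set f : G →* G := α.toMonoidHom
  let T : Gr G →+ Gr G := grMap f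
  have hit : ∀ (m : ℕ) (x : Gr G), (∀ g : G, (α ^ m : MulAut G) g = g) → T^[m] x = x := by
    intro m x hm
    have key : ∀ (m : ℕ) i, ∀ g ∈ lcs G i, T^[m] (e i g) = e i ((α ^ m : MulAut G) g) ∧
        (α ^ m : MulAut G) g ∈ lcs G i := by
      intro m
      induction m with
      | zero => exact fun i g hg => ⟨rfl, hg⟩
      | succ m ih =>
        intro i g hg
        obtain ⟨h1, h2⟩ := ih i g hg
        rw [Function.iterate_succ_apply', h1, grMap_e f h2, pow_succ', MulAut.mul_apply]
        exact ⟨rfl, lcs_map_mem f h2⟩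
    induction x using gr_induction with
    | h0 => exact iterate_map_zero T m
    | he i g hg => rw [(key m i g hg).1, hm]
    | hadd x y hx hy => rw [iterate_map_add, hx, hy]
  have hTp : ∀ x, T^[p] x = x := fun x => hit p x fun g => by rw [← hα, pow_orderOf_eq_one]; rfl
  have hfix : ∀ x, T x = x → x = 0 := fun x => eq_zero_of_grMap_eq hfpf
  have hE := isGr_eig (p := p) T (grMap_lie f)
  have hE0 := eig_zero (p := p) T hfix
  have hmain : ∀ w, (∀ i, cls (eig (p := p) T) w i = ⊥) → lcs G w = ⊥ := by
    intro w hw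
    refine lcs_eq_of_step fun g hg => mem_of_e_eq_zero hg ?_
    have h := e_mem_words w g hg
    have h0 : AddSubgroup.closure {z : Gr G | ∃ x₀ xs, xs.length = w ∧ word x₀ xs = z} ≤ ⊥ := by
      rw [AddSubgroup.closure_le]
      rintro _ ⟨x₀, xs, hlen, rfl⟩
      exact word_eq_zero T hfix hTp hw (fun x hx => eq_zero_of_nsmul_eq_zero (Nat.Coprime.pow_left w hco) hx)
        x₀ xs hlen
    exact AddSubgroup.mem_bot.mp (h0 h)
  exact ⟨hmain _ fun i => cls_le_bot_of_prime hE hE0 i, by
    rintro rfl; exact hmain 2 fun i => cls_two_le_bot_of_three hE hE0 i⟩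

end Cfsg.Agent.FPFLie
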